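import Cfsg.Agent.H209.PiSpor.Row
import Cfsg.Agent.H326.PiC.Two
import Cfsg.Agent.H208.Pi.Fun

/-!
# S4324, sporadic rows: primes with cyclic Sylow subgroups (helper108)

* `fus_mul_le` : `fus x y * |C(y)| ≤ |N(⟨y⟩)|` for `x` inner;
* `cyr_of_sub_one` : the primes `s` with `s - 1 ≤ mm r`;
* `cyr_of_fus` : the primes `s` with `|N(⟨y⟩)| ≤ mm r * s`.
-/

set_option autoImplicit false

namespace Cfsg.Agent.H108.PiSpor

open Subgroup Cfsg Cfsg.Agent Cfsg.Agent.H216.Pi Cfsg.Agent.H209.PiSpor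

universe u

theorem funHyp : H326.PiC.FunHyp.{u} := fun _ _ _ _ hs hc _ hy => H208.Pi.exists_fun hs hc hy

theorem mem_range_of_closure {K : Type*} [Group K] {x : MulAut K} (hx : x ∈ (MulAut.conj : K →* MulAut K).range)
    {α : MulAut K} (h : α ∈ closure ({x} ∪ Set.range (MulAut.conj : K → MulAut K))) :
    α ∈ (MulAut.conj : K →* MulAut K).range := by
  have h1 : closure ({x} ∪ Set.range (MulAut.conj : K → MulAut K)) ≤ (MulAut.conj : K →* MulAut K).range := by
    rw [closure_le]
    rintro y (hy | ⟨k, rfl⟩)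
    · rw [Set.mem_singleton_iff.1 hy]
      exact hx
    · exact ⟨k, rfl⟩
  exact h1 h

/-- the number of fused generators and the normalizer -/
theorem fus_mul_le {K : Type*} [Group K] [Finite K] {x : MulAut K} (hx : x ∈ (MulAut.conj : K →* MulAut K).range)
    (y : K) : fus x y * Nat.card (centralizer ({y} : Set K)) ≤ Nat.card (normalizer (zpowers y : Set K)) := by
  unfold fus
  rw [← Nat.card_prod]
  have key : ∀ z : {z : K // z ∈ zpowers y ∧ ∃ α ∈ closure ({x} ∪ Set.range (MulAut.conj : K → MulAut K)), α y = z},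
      ∃ k : K, k * y * k⁻¹ = z := by
    rintro ⟨z, _, α, hα, hz⟩
    obtain ⟨k, rfl⟩ := mem_range_of_closure hx hα
    exact ⟨k, hz⟩
  choose f hf using key
  have hN : ∀ k : K, k * y * k⁻¹ ∈ zpowers y → k ∈ normalizer (zpowers y : Set K) := by
    intro k hk
    have h1 : (zpowers y).map (MulAut.conj k).toMonoidHom = zpowers y := by
      apply Subgroup.eq_of_le_of_card_ge
      · rintro _ ⟨_, ⟨n, rfl⟩, rfl⟩
        show k * y ^ n * k⁻¹ ∈ _
        rw [← conj_zpow]
        exact zpow_mem hk n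
      · rw [Subgroup.card_map_of_injective (MulAut.conj k).injective]
    rw [mem_normalizer_iff]
    intro h
    constructor
    · intro hh
      have h2 : k * h * k⁻¹ ∈ (zpowers y).map (MulAut.conj k).toMonoidHom := ⟨h, hh, rfl⟩
      rwa [h1] at h2
    · intro hh
      have h2 : k * h * k⁻¹ ∈ (zpowers y).map (MulAut.conj k).toMonoidHom := by rwa [h1]
      obtain ⟨m, hm, h3⟩ := h2
      have h4 : k * m * k⁻¹ = k * h * k⁻¹ := h3
      have h5 : m = h := mul_left_cancel (mul_right_cancel h4)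
      exact h5 ▸ hm
  refine Nat.card_le_card_of_injective (fun p => (⟨f p.1 * p.2.1, ?_⟩ : normalizer (zpowers y : Set K))) ?_
  · refine mul_mem (hN _ ?_) (hN _ ?_)
    · rw [hf]
      exact p.1.2.1
    · rw [mem_centralizer_singleton_iff.1 p.2.2, mul_inv_cancel_right]
      exact mem_zpowers y
  · rintro ⟨z, c⟩ ⟨z', c'⟩ h
    have h1 : f z * (c : K) = f z' * (c' : K) := congrArg Subtype.val h
    have h2 : ∀ (z : {z : K // z ∈ zpowers y ∧ ∃ α ∈ closure ({x} ∪ Set.range (MulAut.conj : K → MulAut K)), α y = z})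
        (c : centralizer ({y} : Set K)), (f z * (c : K)) * y * (f z * (c : K))⁻¹ = z := by
      intro z c
      have hc : (c : K) * y = y * c := mem_centralizer_singleton_iff.1 c.2
      calc (f z * (c : K)) * y * (f z * (c : K))⁻¹ = f z * ((c : K) * y) * (c : K)⁻¹ * (f z)⁻¹ := by group
        _ = f z * y * (f z)⁻¹ := by rw [hc]; group
        _ = z := hf z
    have h3 : z = z' := by
      apply Subtype.ext
      rw [← h2 z c, ← h2 z' c', h1]
    subst h3
    have h4 : c = c' := Subtype.ext (mul_left_cancel h1)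
    rw [h4]

theorem fus_mul_le' {K : Type*} [Group K] [Finite K] {x : MulAut K} (hx : x ∈ (MulAut.conj : K →* MulAut K).range)
    {y : K} {s : ℕ} (hy : orderOf y = s) : fus x y * s ≤ Nat.card (normalizer (zpowers y : Set K)) := by
  refine le_trans (Nat.mul_le_mul_left _ ?_) (fus_mul_le hx y)
  have h1 : zpowers y ≤ centralizer ({y} : Set K) := by
    rw [zpowers_le, mem_centralizer_singleton_iff]
  rw [← hy, ← Nat.card_zpowers]
  exact Nat.card_le_card_of_injective _ (inclusion_injective h1)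

theorem not_comm {K : Type*} [Group K] (hs : IsSimpleGroup K) (hn : ¬ (Nat.card K).Prime) : ¬ IsMulCommutative K := by
  intro h
  have := hs
  let _ : CommGroup K := { ‹Group K› with mul_comm := fun a b => h.is_comm.comm a b }
  have h1 : IsSimpleGroup K := hs
  exact hn (IsSimpleGroup.prime_card (α := K))

/-- `RowP` is invariant under isomorphisms -/
theorem rowP_congr {K L : Type*} [Group K] [Group L] [Finite K] [Finite L] (e : K ≃* L) (h : RowP K) :
    RowP L := by
  intro s r x hs hr hr3 hrs hrK hsK hx hxs hxr hPC hFC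
  have hcard : Nat.card L = Nat.card K := (Nat.card_congr e.toEquiv).symm
  have ho : orderOf (H459.Rad.tr e.symm x) = orderOf x := H459.Rad.orderOf_tr e.symm x
  rw [hcard] at hrK hsK
  exact h s r (H459.Rad.tr e.symm x) hs hr hr3 hrs hrK hsK (by rw [ho]; exact hx) (by rw [ho]; exact hxs)
    (by rw [ho]; exact hxr) (hPC.tr e.symm) (hFC.tr e.symm)

/-- the prime divisors of a product of prime powers -/
theorem exists_of_dvd {s : ℕ} (hs : s.Prime) : ∀ l : List (ℕ × ℕ), (∀ q ∈ l, q.1.Prime) →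
    s ∣ (l.map fun q => q.1 ^ q.2).prod → ∃ q ∈ l, s = q.1 := by
  intro l
  induction l with
  | nil =>
    intro _ h
    rw [List.map_nil, List.prod_nil] at h
    exact absurd (Nat.dvd_one.1 h) hs.one_lt.ne'
  | cons q l ih =>
    intro hl h
    rw [List.map_cons, List.prod_cons] at h
    rcases (Nat.Prime.dvd_mul hs).1 h with h1 | h1
    · exact ⟨q, List.mem_cons_self, (Nat.prime_dvd_prime_iff_eq hs (hl q List.mem_cons_self)).1 (hs.dvd_of_dvd_pow h1)⟩
    · obtain ⟨q', hq', h2⟩ := ih (fun q' hq' => hl q' (List.mem_cons_of_mem _ hq')) h1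
      exact ⟨q', List.mem_cons_of_mem _ hq', h2⟩

/-- `2310` divides the order, so `r ≥ 13` -/
theorem thirteen_le {r n : ℕ} (hr : r.Prime) (hr3 : 3 ≤ r) (hn : 1155 ∣ n) (h : ¬ r ∣ n) : 13 ≤ r := by
  by_contra hcon
  have h1 : r < 13 := by omega
  have h2 : ¬ r ∣ 1155 := fun h3 => h (h3.trans hn)
  clear h hcon
  interval_cases r <;> first
    | (exfalso; revert hr; norm_num; done)
    | (exfalso; revert h2; norm_num)

section

variable {K : Type u} [Group K] [Finite K] [IsSimpleGroup K]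

omit [IsSimpleGroup K] in
theorem isCyclic_sylow {s : ℕ} (hs : s.Prime) (h2 : ¬ s ^ 2 ∣ Nat.card K) (P : Sylow s K) :
    IsCyclic (P : Subgroup K) := by
  have : Fact s.Prime := ⟨hs⟩
  obtain ⟨n, hn⟩ := P.isPGroup'.exists_card_eq
  have hn1 : n ≤ 1 := by
    by_contra hcon
    apply h2
    exact (pow_dvd_pow s (by omega : 2 ≤ n)).trans (hn ▸ card_subgroup_dvd_card (P : Subgroup K))
  rcases Nat.le_one_iff_eq_zero_or_eq_one.1 hn1 with rfl | rfl
  · rw [pow_zero] at hn
    have := (Nat.card_eq_one_iff_unique.1 hn).1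
    exact isCyclic_of_subsingleton
  · rw [pow_one] at hn
    exact isCyclic_of_prime_card hn

/-- small primes -/
theorem cyr_of_sub_one (hK : ¬ IsMulCommutative K) {s r : ℕ} (hs : s.Prime) (hd : s ∣ Nat.card K)
    (h2 : ¬ s ^ 2 ∣ Nat.card K) (hm : s - 1 ≤ mm r) : CYr s r K := fun _ hx hxs _ hFC =>
  H326.PiC.false_of_cyclic_of funHyp H326.PiC.prodHyp hK hs hd (isCyclic_sylow hs h2) hx hxs hm hFC

theorem ncs_of_sq (hK : ¬ IsMulCommutative K) {s : ℕ} (hs : s.Prime) (h3 : 3 ≤ s) (hd : s ∣ Nat.card K)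
    (h2 : ¬ s ^ 2 ∣ Nat.card K) : NCs s K :=
  cyr_of_sub_one (r := s) hK hs hd h2 (sub_one_le_mm h3)

/-- an inner automorphism -/
theorem false_of_inner (hK : ¬ IsMulCommutative K) {s m : ℕ} (hs : s.Prime) (h2 : ¬ s ^ 2 ∣ Nat.card K) {x : MulAut K}
    (hx : (orderOf x).Prime) (hxs : orderOf x ≠ s) (hxi : x ∈ (MulAut.conj : K →* MulAut K).range) {y : K}
    (hy : orderOf y = s) (hN : Nat.card (normalizer (zpowers y : Set K)) ≤ m * s) (h : FC s m x) : False := by
  refine H326.PiC.false_of_fus_of funHyp H326.PiC.prodHyp hK hs (isCyclic_sylow hs h2) hx hxs hy ?_ h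
  have h1 := (fus_mul_le' hxi hy).trans hN
  exact Nat.le_of_mul_le_mul_right h1 hs.pos

/-- the normalizer is small and all automorphisms are inner -/
theorem cyr_of_fus (hK : ¬ IsMulCommutative K) {s r : ℕ} (hs : s.Prime) (h2 : ¬ s ^ 2 ∣ Nat.card K)
    (hin : ∀ x : MulAut K, x ∈ (MulAut.conj : K →* MulAut K).range) {y : K}
    (hy : orderOf y = s) (hN : Nat.card (normalizer (zpowers y : Set K)) ≤ mm r * s) : CYr s r K :=
  fun x hx hxs _ hFC => false_of_inner hK hs h2 hx hxs (hin x) hy hN hFC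

end

end Cfsg.Agent.H108.PiSpor
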