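import Cfsg.Agent.H108.PiSpor.Fus
import Cfsg.Agent.H511.Cyc.LyOrd
import Cfsg.Agent.TypeM.OutLyFin

/-!
# S4324, the row of the Lyons group (helper108)

`|Ly| = 2⁸·3⁷·5⁶·7·11·31·37·67`; `r ≥ 13`, `mm r ≥ 22` and `|N(31)| = 31·6`, `|N(37)| = 37·18`, `|N(67)| = 67·22`.
-/

set_option autoImplicit false
set_option maxRecDepth 100000

namespace Cfsg.Agent.H108.PiSpor

open Subgroup Cfsg Cfsg.Agent Cfsg.Agent.H216.Pi Cfsg.Agent.H209.PiSpor
open Cfsg.Spor (Ly)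

universe u

namespace Ly

theorem fin : Finite Ly := Cfsg.Agent.Ly.Setup.finite_ly

theorem card : Nat.card Ly = 51765179004000000 := Cfsg.Agent.Ly.Setup.card_ly

theorem cyr {s n r : ℕ} (hs : IsSimpleGroup Ly) (hK : ¬ IsMulCommutative Ly) (hsp : s.Prime) (hd : s ∣ Nat.card Ly)
    (h2 : ¬ s ^ 2 ∣ Nat.card Ly) (hN : ∀ y : Ly, orderOf y = s → Nat.card (normalizer (zpowers y : Set Ly)) = s * n)
    (hn : n ≤ 22) (hr : 13 ≤ r) : CYr s r Ly := by
  have hfin : Finite Ly := fin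
  have : Fact s.Prime := ⟨hsp⟩
  obtain ⟨y, hy⟩ := exists_prime_orderOf_dvd_card' (G := Ly) s hd
  refine cyr_of_fus hK hsp h2 TypeM.OutLyFin.inner_ly hy ?_
  rw [hN y hy, mul_comm]
  exact Nat.mul_le_mul_right s (by unfold mm; omega)

theorem row (h3 : NCs 3 Ly) (h5 : NCs 5 Ly) : RowP Ly := by
  have hfin : Finite Ly := fin
  have hs : IsSimpleGroup Ly := Cfsg.Agent.Ly.Setup.isSimple_ly
  have hK : ¬ IsMulCommutative Ly := by
    refine not_comm hs ?_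
    rw [card]
    norm_num
  refine rowP_of fun s hsp hs3 hd => ?_
  have hd' := hd
  rw [card] at hd'
  have h2 : ∀ {t : ℕ}, ¬ t ^ 2 ∣ 51765179004000000 → ¬ t ^ 2 ∣ Nat.card Ly := fun h => by rwa [card]
  have h13 : ∀ r : ℕ, r.Prime → 3 ≤ r → ¬ r ∣ Nat.card Ly → 13 ≤ r := fun r hr hr3 h =>
    thirteen_le (n := 51765179004000000) hr hr3 (by norm_num) (by rwa [card] at h)
  obtain ⟨q, hq, rfl⟩ := exists_of_dvd hsp [(2, 8), (3, 7), (5, 6), (7, 1), (11, 1), (31, 1), (37, 1), (67, 1)]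
    (by norm_num) (hd'.trans (by norm_num))
  simp only [List.mem_cons, List.not_mem_nil, or_false] at hq
  have hout : ∀ {s : ℕ}, s < 13 → ∀ r : ℕ, r.Prime → 3 ≤ r → r < s → ¬ r ∣ Nat.card Ly → CYr s r Ly :=
    fun {s} hs r hr hr3 hrs h => absurd (h13 r hr hr3 h) (by omega)
  rcases hq with rfl | rfl | rfl | rfl | rfl | rfl | rfl | rfl
  · exact absurd hs3 (by norm_num)
  · exact ⟨h3, hout (by norm_num)⟩
  · exact ⟨h5, hout (by norm_num)⟩
  · exact ⟨ncs_of_sq hK hsp hs3 hd (h2 (by norm_num)), hout (by norm_num)⟩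
  · exact ⟨ncs_of_sq hK hsp hs3 hd (h2 (by norm_num)), hout (by norm_num)⟩
  · exact ⟨ncs_of_sq hK hsp hs3 hd (h2 (by norm_num)), fun r hr hr3 _ h =>
      cyr hs hK hsp hd (h2 (by norm_num)) (n := 6) (fun y hy => (H511.Cyc.Ly.dat31 hy).2) (by norm_num) (h13 r hr hr3 h)⟩
  · exact ⟨ncs_of_sq hK hsp hs3 hd (h2 (by norm_num)), fun r hr hr3 _ h =>
      cyr hs hK hsp hd (h2 (by norm_num)) (n := 18) (fun y hy => (H511.Cyc.Ly.dat37 hy).2) (by norm_num)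
        (h13 r hr hr3 h)⟩
  · exact ⟨ncs_of_sq hK hsp hs3 hd (h2 (by norm_num)), fun r hr hr3 _ h =>
      cyr hs hK hsp hd (h2 (by norm_num)) (n := 22) (fun y hy => (H511.Cyc.Ly.dat67 hy).2) (by norm_num)
        (h13 r hr hr3 h)⟩

end Ly

/-- **the row `Ly`** -/
theorem rowP_Ly {K : Type u} [Group K] [Finite K] (h : Spor.IsoLy K) (h3 : NCs 3 K) (h5 : NCs 5 K) : RowP K := by
  obtain ⟨e⟩ := h
  have hfin : Finite Ly := Ly.fin
  exact rowP_congr e.symm (Ly.row (ncs_congr e h3) (ncs_congr e h5))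

end Cfsg.Agent.H108.PiSpor
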