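import Cfsg.Agent.H108.PiSpor.Fus
import Cfsg.Agent.H248.SK.ONOut

/-!
# S4324, the row of the O'Nan group (helper108)

`|ON| = 2⁹·3⁴·5·7³·11·19·31`. Only `s = 31`, `r = 13` is not covered by `s - 1 ≤ mm r`: `|N(31)| = 31·15`, and an outer
involution inverts an element of order 31.
-/

set_option autoImplicit false
set_option maxRecDepth 100000

namespace Cfsg.Agent.H108.PiSpor

open Subgroup Cfsg Cfsg.Agent Cfsg.Agent.H216.Pi Cfsg.Agent.H209.PiSpor
open Cfsg.Spor (ON)

universe u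

namespace ON

theorem fin : Finite ON := Cfsg.Agent.KFacts.ON.OneClass.finite_ON

theorem card : Nat.card ON = 460815505920 := Cfsg.Agent.KFacts.ON.OneClass.card_ON

/-- `|N(31)| ≤ 31·15` -/
theorem normalizer_le {y : ON} (hy : orderOf y = 31) : Nat.card (normalizer (zpowers y : Set ON)) ≤ 15 * 31 := by
  have hfin : Finite ON := fin
  have h31F : Fact (Nat.Prime 31) := ⟨by norm_num⟩
  obtain ⟨n, hn, hN⟩ := CpAutON.Gen.card_eq (G := ON) (p := 31) (by rw [card]; norm_num) hy
  have hd := H474.ONC.range_dvd hy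
  have hNc := CpAutON.Gen.card_normalizer y
  rw [H680.ONThirtyOne.card_cent hy] at hN hNc
  obtain ⟨m, hm⟩ : ∃ m, m = Nat.card ↥((zpowers y).normalizerMonoidHom).range := ⟨_, rfl⟩
  rw [← hm] at hN hd hNc
  rw [card] at hN
  have hm30 : m ≤ 30 := Nat.le_of_dvd (by norm_num) hd
  have hm15 : m ≤ 15 := by
    by_contra hcon
    have hm16 : 16 ≤ m := by omega
    clear hm hNc hcon
    have hm' : m = 30 := by
      interval_cases m <;> first
        | rfl
        | (exfalso; revert hd; norm_num)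
    subst hm'
    omega
  rw [hNc, mul_comm]
  exact Nat.mul_le_mul_right 31 hm15

theorem order_two {x : MulAut ON} (hp : (orderOf x).Prime) (hx : x ∉ (MulAut.conj : ON →* MulAut ON).range) :
    x * x = 1 := by
  have h1 : x * x ∈ (MulAut.conj : ON →* MulAut ON).range := by
    obtain ⟨a, ha | ha⟩ := Cfsg.Agent.UGT.C.BalON.out' H248.SK.ONOut.hON x
    · exact absurd ⟨a, ha.symm⟩ hx
    · refine ⟨a * Cfsg.Agent.UGT.C.BalON.bt H248.SK.ONOut.hON a, ?_⟩
      rw [map_mul, ha]
      ext c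
      simp [mul_assoc, Cfsg.Agent.UGT.C.BalON.bt_bt']
  by_contra hne
  -- the order is odd
  have h2 : orderOf x ≠ 2 := fun h => hne (by rw [← pow_two, ← h, pow_orderOf_eq_one])
  obtain ⟨k, hk⟩ := hp.odd_of_ne_two h2
  apply hx
  have h3 : x = (x * x) ^ (k + 1) := by
    have h4 : x ^ (2 * k + 1) = 1 := by rw [← hk, pow_orderOf_eq_one]
    calc x = x ^ (2 * k + 1) * x := by rw [h4, one_mul]
      _ = (x * x) ^ (k + 1) := by rw [← pow_two, ← pow_mul, ← pow_succ]; congr 1
  rw [h3]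
  exact pow_mem h1 _

theorem cyr31 (hK : ¬ IsMulCommutative ON) {r : ℕ} (hr : 22 ≤ mm r) : CYr 31 r ON := by
  intro x hx hxs hPC hFC
  have hfin : Finite ON := fin
  have hs : IsSimpleGroup ON := H248.SK.ONOut.hON.1
  have h31 : Nat.Prime 31 := by norm_num
  have h31F : Fact (Nat.Prime 31) := ⟨h31⟩
  have h2 : ¬ 31 ^ 2 ∣ Nat.card ON := by rw [card]; norm_num
  by_cases hxi : x ∈ (MulAut.conj : ON →* MulAut ON).range
  · obtain ⟨y, hy⟩ := exists_prime_orderOf_dvd_card' (G := ON) 31 (by rw [card]; norm_num)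
    exact false_of_inner hK h31 h2 hx hxs hxi hy ((normalizer_le hy).trans (Nat.mul_le_mul_right 31 (by omega))) hFC
  · obtain ⟨z, hz, hi⟩ := H248.SK.ONOut.exists_inv (order_two hx hxi) (fun a ha => hxi ⟨a, ha.symm⟩)
    refine false_of_normalise h31 hPC ?_ hz (by rw [hi]; exact inv_mem (mem_zpowers z)) ?_
    · intro h
      obtain ⟨n, hn⟩ := h.exists_card_eq
      have h3 : n ≤ 1 := by
        by_contra hcon
        exact h2 (hn ▸ pow_dvd_pow 31 (by omega))
      rw [card] at hn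
      have h4 := Nat.pow_le_pow_right (show 0 < 31 by norm_num) h3
      omega
    · intro h
      rw [hi] at h
      have h3 : z ^ 2 = 1 := by
        rw [pow_two]
        nth_rw 1 [← h]
        exact inv_mul_cancel z
      have h4 := orderOf_dvd_of_pow_eq_one h3
      rw [hz] at h4
      norm_num at h4

theorem row (h3 : NCs 3 ON) (h7 : NCs 7 ON) : RowP ON := by
  have hfin : Finite ON := fin
  have hs : IsSimpleGroup ON := H248.SK.ONOut.hON.1
  have hK : ¬ IsMulCommutative ON := by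
    refine not_comm hs ?_
    rw [card]
    norm_num
  refine rowP_of fun s hsp hs3 hd => ?_
  have hd' := hd
  rw [card] at hd'
  have h2 : ∀ {t : ℕ}, ¬ t ^ 2 ∣ 460815505920 → ¬ t ^ 2 ∣ Nat.card ON := fun h => by rwa [card]
  have h13 : ∀ r : ℕ, r.Prime → 3 ≤ r → ¬ r ∣ Nat.card ON → 13 ≤ r := fun r hr hr3 h =>
    thirteen_le (n := 460815505920) hr hr3 (by norm_num) (by rwa [card] at h)
  obtain ⟨q, hq, rfl⟩ := exists_of_dvd hsp [(2, 9), (3, 4), (5, 1), (7, 3), (11, 1), (19, 1), (31, 1)]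
    (by norm_num) (hd'.trans (by norm_num))
  simp only [List.mem_cons, List.not_mem_nil, or_false] at hq
  have hout : ∀ {s : ℕ}, s < 13 → ∀ r : ℕ, r.Prime → 3 ≤ r → r < s → ¬ r ∣ Nat.card ON → CYr s r ON :=
    fun {s} hs r hr hr3 hrs h => absurd (h13 r hr hr3 h) (by omega)
  rcases hq with rfl | rfl | rfl | rfl | rfl | rfl | rfl
  · exact absurd hs3 (by norm_num)
  · exact ⟨h3, hout (by norm_num)⟩
  · exact ⟨ncs_of_sq hK hsp hs3 hd (h2 (by norm_num)), hout (by norm_num)⟩
  · exact ⟨h7, hout (by norm_num)⟩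
  · exact ⟨ncs_of_sq hK hsp hs3 hd (h2 (by norm_num)), hout (by norm_num)⟩
  · refine ⟨ncs_of_sq hK hsp hs3 hd (h2 (by norm_num)), fun r hr hr3 _ h => ?_⟩
    have h4 := h13 r hr hr3 h
    exact cyr_of_sub_one hK hsp hd (h2 (by norm_num)) (by show 19 - 1 ≤ mm r; unfold mm; omega)
  · refine ⟨ncs_of_sq hK hsp hs3 hd (h2 (by norm_num)), fun r hr hr3 _ h => ?_⟩
    have h4 := h13 r hr hr3 h
    exact cyr31 hK (by unfold mm; omega)

end ON

/-- **the row `ON`** -/
theorem rowP_ON {K : Type u} [Group K] [Finite K] (h : Spor.IsoON K) (h3 : NCs 3 K) (h7 : NCs 7 K) : RowP K := by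
  obtain ⟨e⟩ := h
  have hfin : Finite ON := ON.fin
  exact rowP_congr e.symm (ON.row (ncs_congr e h3) (ncs_congr e h7))

end Cfsg.Agent.H108.PiSpor
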